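import Groth.Agent.NagataLib.IntClosure

/-!
# Integral closures of Nagata rings in essentially finitely generated fields
-/

set_option autoImplicit false
set_option linter.style.haveILetI false

universe u

namespace Groth.Agent.NagataLib

/-- The relative algebraic closure of the base in an essentially finitely generated field. -/
theorem finite_integralClosure_field {A : Type u} [CommRing A] (hA : CAlg.IsNagata A) (C : Type u)
    [Field C] [Algebra A C] [Algebra.EssFiniteType A C] :
    Module.Finite A (integralClosure A C) := by
  haveI := hA.1
  let p := RingHom.ker (algebraMap A C)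
  haveI : p.IsPrime := RingHom.ker_isPrime _
  let A' := A ⧸ p
  letI : Algebra A' C := (Ideal.Quotient.lift p (algebraMap A C) fun a ha => ha).toAlgebra
  haveI : IsScalarTower A A' C := IsScalarTower.of_algebraMap_eq fun _ => rfl
  haveI : FaithfulSMul A' C :=
    (faithfulSMul_iff_algebraMap_injective A' C).mpr (RingHom.kerLift_injective (algebraMap A C))
  haveI : Algebra.EssFiniteType A' C := Algebra.EssFiniteType.of_comp A A' C
  let L := C
  letI : Algebra (FractionRing A') L := FractionRing.liftAlgebra A' L
  haveI : IsScalarTower A' (FractionRing A') L := FractionRing.isScalarTower_liftAlgebra A' L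
  haveI : Algebra.EssFiniteType (FractionRing A') L := Algebra.EssFiniteType.of_comp A' _ L
  let E := algebraicClosure (FractionRing A') L
  haveI : Algebra.IsAlgebraic (FractionRing A') E := algebraicClosure.isAlgebraic _ _
  haveI : FiniteDimensional (FractionRing A') E := finiteDimensional_of_isAlgebraic E
  letI : Algebra A' E := ((algebraMap (FractionRing A') E).comp (algebraMap A' _)).toAlgebra
  haveI : IsScalarTower A' (FractionRing A') E := IsScalarTower.of_algebraMap_eq fun _ => rfl
  haveI hE : Module.Finite A' (integralClosure A' E) := hA.2 p E ‹_›
  haveI : Module.Finite A A' :=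
    Module.Finite.of_surjective (Algebra.linearMap A A') Ideal.Quotient.mk_surjective
  letI : Algebra A E := ((algebraMap A' E).comp (algebraMap A A')).toAlgebra
  haveI : IsScalarTower A A' E := IsScalarTower.of_algebraMap_eq fun _ => rfl
  haveI : Module.Finite A (integralClosure A' E) := Module.Finite.trans A' _
  have hmem : ∀ z : integralClosure A C, IsIntegral A' (z.1 : L) := fun z =>
    z.2.tower_top (A := A')
  let z' : integralClosure A C → integralClosure A' E := fun z =>
    ⟨⟨z.1, mem_algebraicClosure_iff.mpr ((hmem z).tower_top (A := FractionRing A')).isAlgebraic⟩,
      (isIntegral_algHom_iff (E.val.restrictScalars A') Subtype.val_injective).mp (hmem z)⟩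
  let i : integralClosure A C →ₗ[A] integralClosure A' E :=
    { toFun := z'
      map_add' := fun a b => rfl
      map_smul' := fun c a => Subtype.ext (Subtype.ext (by
        show c • (a.1 : L) = _
        rw [Algebra.smul_def]
        show _ = ((c • (z' a).1 : E) : L)
        rw [Algebra.smul_def]
        show _ = ((algebraMap A E c : E) : L) * _
        congr 1
        show _ = algebraMap (FractionRing A') L (algebraMap A' _ (algebraMap A A' c))
        rw [← IsScalarTower.algebraMap_apply A' (FractionRing A') L]
        rfl)) }
  exact Module.Finite.of_injective i fun a b h =>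
    Subtype.ext (congrArg (fun w : integralClosure A' E => (w.1 : L)) h)

end Groth.Agent.NagataLib
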